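import Mathlib

set_option autoImplicit false
open Matrix

namespace Cfsg.Agent.Lib.EvenForm

variable {n : Type*} [Fintype n]

/-- The bilinear pairing of an integer matrix. -/
theorem dot_mulVec_comm {B : Matrix n n ℤ} (hsymm : B.IsSymm) (x y : n → ℤ) :
    x ⬝ᵥ (B *ᵥ y) = y ⬝ᵥ (B *ᵥ x) := by
  rw [dotProduct_mulVec, ← mulVec_transpose, hsymm.eq, dotProduct_comm]

theorem quad_add {B : Matrix n n ℤ} (hsymm : B.IsSymm) (x y : n → ℤ) :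
    (x + y) ⬝ᵥ (B *ᵥ (x + y)) = x ⬝ᵥ (B *ᵥ x) + y ⬝ᵥ (B *ᵥ y) + 2 * (x ⬝ᵥ (B *ᵥ y)) := by
  simp only [mulVec_add, add_dotProduct, dotProduct_add, dot_mulVec_comm hsymm y x]
  ring

theorem quad_sub {B : Matrix n n ℤ} (hsymm : B.IsSymm) (x y : n → ℤ) :
    (x - y) ⬝ᵥ (B *ᵥ (x - y)) = x ⬝ᵥ (B *ᵥ x) + y ⬝ᵥ (B *ᵥ y) - 2 * (x ⬝ᵥ (B *ᵥ y)) := by
  simp only [mulVec_sub, sub_dotProduct, dotProduct_sub, dot_mulVec_comm hsymm y x]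
  ring

theorem quad_two_mul (B : Matrix n n ℤ) (z : n → ℤ) :
    ((2 : ℤ) • z) ⬝ᵥ (B *ᵥ ((2 : ℤ) • z)) = 4 * (z ⬝ᵥ (B *ᵥ z)) := by
  simp only [mulVec_smul, smul_dotProduct, dotProduct_smul, smul_eq_mul]
  ring

theorem quad_neg (B : Matrix n n ℤ) (z : n → ℤ) : (-z) ⬝ᵥ (B *ᵥ (-z)) = z ⬝ᵥ (B *ᵥ z) := by
  simp only [mulVec_neg, neg_dotProduct, dotProduct_neg, neg_neg]

/-- Congruence modulo twice the lattice: the difference is twice a vector. -/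
theorem exists_half (x y : n → ℤ) (hc : ∀ i, (2 : ℤ) ∣ (x - y) i) :
    ∃ z : n → ℤ, x - y = (2 : ℤ) • z := by
  choose z hz using hc
  exact ⟨z, funext fun i => by simpa [smul_eq_mul] using hz i⟩

/-- In an even rootless lattice two congruent vectors of norm at most 8 are equal or opposite, or
both have norm 8 and are orthogonal. -/
theorem congr_small {B : Matrix n n ℤ} (hsymm : B.IsSymm)
    (hpos : ∀ x : n → ℤ, x ≠ 0 → 0 < x ⬝ᵥ (B *ᵥ x))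
    (heven : ∀ x : n → ℤ, (2 : ℤ) ∣ x ⬝ᵥ (B *ᵥ x)) (h2 : ∀ x : n → ℤ, x ⬝ᵥ (B *ᵥ x) ≠ 2)
    (x y : n → ℤ) (hx : x ⬝ᵥ (B *ᵥ x) ≤ 8) (hy : y ⬝ᵥ (B *ᵥ y) ≤ 8)
    (hc : ∀ i, (2 : ℤ) ∣ (x - y) i) :
    y = x ∨ y = -x ∨ (x ⬝ᵥ (B *ᵥ x) = 8 ∧ y ⬝ᵥ (B *ᵥ y) = 8 ∧ x ⬝ᵥ (B *ᵥ y) = 0) := by
  obtain ⟨z, hz⟩ := exists_half x y hc
  have hw : x + y = (2 : ℤ) • (z + y) := by
    rw [smul_add, ← hz]; simp [two_smul]
  by_cases hz0 : z = 0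
  · left
    rw [hz0, smul_zero, sub_eq_zero] at hz
    exact hz.symm
  by_cases hw0 : z + y = 0
  · right; left
    rw [hw0, smul_zero] at hw
    exact eq_neg_of_add_eq_zero_right hw
  right; right
  have big : ∀ v : n → ℤ, v ≠ 0 → 4 ≤ v ⬝ᵥ (B *ᵥ v) := by
    intro v hv
    have := hpos v hv
    have := heven v
    have := h2 v
    omega
  have e1 := quad_sub hsymm x y
  have e2 := quad_add hsymm x y
  rw [hz, quad_two_mul] at e1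
  rw [hw, quad_two_mul] at e2
  have := big z hz0
  have := big _ hw0
  omega

end Cfsg.Agent.Lib.EvenForm
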