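import Mathlib
import Cfsg.Agent.Lib.Lattice.EvenForm

set_option autoImplicit false
open Matrix

namespace Cfsg.Agent.Lib.EvenForm

/-- A family of vectors of one fixed positive norm, pairwise equal, opposite or orthogonal,
has at most twice as many members as the rank. -/
theorem ncard_frame_le {n : Type*} [Fintype n] [DecidableEq n] {B : Matrix n n ℤ}
    (hsymm : B.IsSymm) (F : Set (n → ℤ)) (hne : ∀ y ∈ F, y ⬝ᵥ (B *ᵥ y) ≠ 0)
    (horth : ∀ y ∈ F, ∀ y' ∈ F, y' = y ∨ y' = -y ∨ y ⬝ᵥ (B *ᵥ y') = 0) :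
    F.Finite ∧ F.ncard ≤ 2 * Fintype.card n := by
  classical
  obtain ⟨enc, henc⟩ := Countable.exists_injective_nat (n → ℤ)
  let T : Set (n → ℤ) := {y | y ∈ F ∧ (enc y ≤ enc (-y) ∨ -y ∉ F)}
  have hsep : ∀ y ∈ T, ∀ y' ∈ T, y ≠ y' → y ⬝ᵥ (B *ᵥ y') = 0 := by
    rintro y ⟨hy, hy1⟩ y' ⟨hy', hy1'⟩ hne'
    rcases horth y hy y' hy' with h | h | h
    · exact absurd h.symm hne'
    · subst h
      simp only [neg_neg, hy, hy', not_true_eq_false, or_false] at hy1 hy1'
      exact absurd (henc (le_antisymm hy1 hy1')) hne'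
    · exact h
  have hli : LinearIndependent ℤ (fun y : T => (y : n → ℤ)) := by
    rw [linearIndependent_iff']
    intro s c hsum i hi
    have h := congrArg (fun v => (i : n → ℤ) ⬝ᵥ (B *ᵥ v)) hsum
    simp only [mulVec_zero, dotProduct_zero, Matrix.mulVec_sum, dotProduct_sum, mulVec_smul,
      dotProduct_smul, smul_eq_mul] at h
    rw [Finset.sum_eq_single i] at h
    · rcases mul_eq_zero.1 h with h | h
      · exact h
      · exact absurd h (hne _ i.2.1)
    · intro b _ hb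
      rw [hsep _ i.2 _ b.2 (fun e => hb (Subtype.ext e.symm)), mul_zero]
    · exact fun hni => absurd hi hni
  have hTfin : T.Finite := by
    have := hli.finite
    exact Set.toFinite T
  haveI := hTfin.fintype
  have hcard : T.ncard ≤ Fintype.card n := by
    have h := hli.fintype_card_le_finrank
    rw [Module.finrank_fintype_fun_eq_card] at h
    rwa [Set.ncard_eq_toFinset_card', Set.toFinset_card]
  have hsub : F ⊆ T ∪ (fun y => -y) '' T := by
    intro y hy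
    by_cases h : enc y ≤ enc (-y) ∨ -y ∉ F
    · exact Or.inl ⟨hy, h⟩
    · push Not at h
      exact Or.inr ⟨-y, ⟨h.2, Or.inl (by rw [neg_neg]; exact h.1.le)⟩, neg_neg y⟩
  have hufin := hTfin.union (hTfin.image fun y => -y)
  refine ⟨hufin.subset hsub, ?_⟩
  calc F.ncard ≤ (T ∪ (fun y => -y) '' T).ncard := Set.ncard_le_ncard hsub hufin
    _ ≤ T.ncard + ((fun y => -y) '' T).ncard := Set.ncard_union_le _ _
    _ ≤ T.ncard + T.ncard := Nat.add_le_add_left (Set.ncard_image_le hTfin) _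
    _ ≤ 2 * Fintype.card n := by omega

section Counts

variable {n : Type*} [Fintype n] [DecidableEq n] {B : Matrix n n ℤ}

/-- Reduction modulo 2. -/
def red (x : n → ℤ) : n → ZMod 2 := fun i => (x i : ZMod 2)

theorem red_eq_iff (x y : n → ℤ) : red x = red y ↔ ∀ i, (2 : ℤ) ∣ (x - y) i := by
  simp only [red, funext_iff, Pi.sub_apply]
  refine forall_congr' fun i => ?_
  rw [eq_comm, ZMod.intCast_eq_intCast_iff_dvd_sub]
  norm_num

theorem ncard_le_mul_image {α β : Type*} (f : α → β) {s : Set α} (hs : s.Finite) (k : ℕ)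
    (hk : ∀ a ∈ s, {b | b ∈ s ∧ f b = f a}.ncard ≤ k) : s.ncard ≤ k * (f '' s).ncard := by
  classical
  have h := Finset.card_le_mul_card_image (f := f) hs.toFinset k (fun b hb => by
    obtain ⟨a, ha, rfl⟩ := Finset.mem_image.1 hb
    rw [hs.mem_toFinset] at ha
    refine le_trans (le_of_eq ?_) (hk a ha)
    rw [← Set.ncard_coe_finset]
    congr 1
    ext x
    simp)
  rw [← Set.ncard_coe_finset, hs.coe_toFinset, ← Set.ncard_coe_finset, Finset.coe_image,
    hs.coe_toFinset] at h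
  exact h

/-- The counting argument: with the vector numbers of the rank-24 lattice, the short vectors fill
all classes modulo 2 and each class of a norm 8 vector has exactly 48 members of norm 8. -/
theorem classes_complete (hn : Fintype.card n = 24) (hsymm : B.IsSymm)
    (hpos : ∀ x : n → ℤ, x ≠ 0 → 0 < x ⬝ᵥ (B *ᵥ x))
    (heven : ∀ x : n → ℤ, (2 : ℤ) ∣ x ⬝ᵥ (B *ᵥ x)) (h2 : ∀ x : n → ℤ, x ⬝ᵥ (B *ᵥ x) ≠ 2)
    (h4 : {x : n → ℤ | x ⬝ᵥ (B *ᵥ x) = 4}.ncard = 196560)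
    (h6 : {x : n → ℤ | x ⬝ᵥ (B *ᵥ x) = 6}.ncard = 16773120)
    (h8 : {x : n → ℤ | x ⬝ᵥ (B *ᵥ x) = 8}.ncard = 398034000) :
    (∀ x : n → ℤ, x ⬝ᵥ (B *ᵥ x) = 8 →
        {y : n → ℤ | y ⬝ᵥ (B *ᵥ y) = 8 ∧ ∀ i, (2 : ℤ) ∣ (x - y) i}.ncard = 48) ∧
      ∀ x : n → ℤ, ∃ y : n → ℤ, y ⬝ᵥ (B *ᵥ y) ≤ 8 ∧ ∀ i, (2 : ℤ) ∣ (x - y) i := by
  classical
  set S : ℤ → Set (n → ℤ) := fun k => {x | x ⬝ᵥ (B *ᵥ x) = k} with hS
  have f4 : (S 4).Finite := Set.finite_of_ncard_ne_zero (by rw [hS]; dsimp only; rw [h4]; decide)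
  have f6 : (S 6).Finite := Set.finite_of_ncard_ne_zero (by rw [hS]; dsimp only; rw [h6]; decide)
  have f8 : (S 8).Finite := Set.finite_of_ncard_ne_zero (by rw [hS]; dsimp only; rw [h8]; decide)
  have key : ∀ x y : n → ℤ, x ⬝ᵥ (B *ᵥ x) ≤ 8 → y ⬝ᵥ (B *ᵥ y) ≤ 8 → red x = red y →
      y = x ∨ y = -x ∨ (x ⬝ᵥ (B *ᵥ x) = 8 ∧ y ⬝ᵥ (B *ᵥ y) = 8 ∧ x ⬝ᵥ (B *ᵥ y) = 0) :=
    fun x y hx hy h => congr_small hsymm hpos heven h2 x y hx hy ((red_eq_iff x y).1 h)
  have samenorm : ∀ x y : n → ℤ, x ⬝ᵥ (B *ᵥ x) ≤ 8 → y ⬝ᵥ (B *ᵥ y) ≤ 8 → red x = red y →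
      y ⬝ᵥ (B *ᵥ y) = x ⬝ᵥ (B *ᵥ x) := by
    intro x y hx hy h
    rcases key x y hx hy h with h | h | h
    · rw [h]
    · rw [h, quad_neg]
    · omega
  have two_le : ∀ k : ℤ, k < 8 → ∀ a ∈ S k, {b | b ∈ S k ∧ red b = red a}.ncard ≤ 2 := by
    intro k hk a ha
    refine le_trans (Set.ncard_le_ncard (t := {a, -a}) ?_ (Set.toFinite _)) ?_
    · rintro b ⟨hb, hba⟩
      rcases key a b (ha.trans_le hk.le) (hb.trans_le hk.le) hba.symm with h | h | h
      · exact Or.inl h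
      · exact Or.inr h
      · exact absurd (ha.symm.trans h.1) hk.ne
    · exact (Set.ncard_insert_le _ _).trans (by rw [Set.ncard_singleton])
  have le48 : ∀ a ∈ S 8, {b | b ∈ S 8 ∧ red b = red a}.ncard ≤ 48 := by
    intro a _
    refine le_trans (ncard_frame_le hsymm _ (fun y hy => by rw [hy.1.out]; norm_num) ?_).2 (by rw [hn])
    rintro y ⟨hy, hya⟩ y' ⟨hy', hya'⟩
    rcases key y y' hy.out.le hy'.out.le (hya.trans hya'.symm) with h | h | h
    · exact Or.inl h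
    · exact Or.inr (Or.inl h)
    · exact Or.inr (Or.inr h.2.2)
  have c4 := ncard_le_mul_image red f4 2 (two_le 4 (by norm_num))
  have c6 := ncard_le_mul_image red f6 2 (two_le 6 (by norm_num))
  have c8 := ncard_le_mul_image red f8 48 le48
  rw [show (S 4).ncard = 196560 from h4] at c4
  rw [show (S 6).ncard = 16773120 from h6] at c6
  rw [show (S 8).ncard = 398034000 from h8] at c8
  have hdis : ∀ j k : ℤ, j ≤ 8 → k ≤ 8 → j ≠ k → Disjoint (red '' S j) (red '' S k) := by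
    intro j k hj hk hjk
    rw [Set.disjoint_left]
    rintro _ ⟨x, hx, rfl⟩ ⟨y, hy, hxy⟩
    exact hjk ((hx.symm.trans (samenorm y x (hy.trans_le hk) (hx.trans_le hj) hxy)).trans hy)
  let Z : Set (n → ZMod 2) := red '' S 0
  have h0 : 1 ≤ Z.ncard := by
    exact Nat.one_le_iff_ne_zero.2 (Set.ncard_ne_zero_of_mem (a := red 0) ⟨0, by simp [hS], rfl⟩)
  have hall : Z ∪ red '' S 4 ∪ red '' S 6 ∪ red '' S 8 = Set.univ ∧
      (red '' S 8).ncard = 8292375 := by
    have d1 := Set.disjoint_iff_inter_eq_empty.1 (hdis 0 4 (by norm_num) (by norm_num) (by norm_num))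
    have e1 : (Z ∪ red '' S 4).ncard = Z.ncard + (red '' S 4).ncard :=
      Set.ncard_union_eq (hdis 0 4 (by norm_num) (by norm_num) (by norm_num)) (Set.toFinite _)
        (Set.toFinite _)
    have e2 : (Z ∪ red '' S 4 ∪ red '' S 6).ncard = (Z ∪ red '' S 4).ncard + (red '' S 6).ncard :=
      Set.ncard_union_eq (Set.disjoint_union_left.2 ⟨hdis 0 6 (by norm_num) (by norm_num) (by norm_num),
        hdis 4 6 (by norm_num) (by norm_num) (by norm_num)⟩) (Set.toFinite _) (Set.toFinite _)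
    have e3 : (Z ∪ red '' S 4 ∪ red '' S 6 ∪ red '' S 8).ncard
        = (Z ∪ red '' S 4 ∪ red '' S 6).ncard + (red '' S 8).ncard :=
      Set.ncard_union_eq (Set.disjoint_union_left.2 ⟨Set.disjoint_union_left.2
        ⟨hdis 0 8 (by norm_num) (by norm_num) (by norm_num),
          hdis 4 8 (by norm_num) (by norm_num) (by norm_num)⟩,
        hdis 6 8 (by norm_num) (by norm_num) (by norm_num)⟩) (Set.toFinite _) (Set.toFinite _)
    have htot : (Set.univ : Set (n → ZMod 2)).ncard = 16777216 := by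
      rw [Set.ncard_univ, Nat.card_eq_fintype_card, Fintype.card_fun, ZMod.card, hn]
      norm_num
    have hle := Set.ncard_le_ncard (Set.subset_univ (Z ∪ red '' S 4 ∪ red '' S 6 ∪ red '' S 8))
      (Set.toFinite _)
    refine ⟨Set.eq_of_subset_of_ncard_le (Set.subset_univ _) (by omega) (Set.toFinite _), by omega⟩
  refine ⟨fun x hx => ?_, fun x => ?_⟩
  · have hfib : {y : n → ℤ | y ⬝ᵥ (B *ᵥ y) = 8 ∧ ∀ i, (2 : ℤ) ∣ (x - y) i}
        = {b | b ∈ S 8 ∧ red b = red x} := by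
      ext y
      simp only [hS, Set.mem_ofPred_eq]
      rw [← red_eq_iff, eq_comm (a := red x)]
    rw [hfib]
    refine le_antisymm (le48 x hx) ?_
    by_contra hlt
    push Not at hlt
    set X := red x
    have hX : X ∈ red '' S 8 := ⟨x, hx, rfl⟩
    set R : Set (n → ℤ) := {b | b ∈ S 8 ∧ red b ≠ X} with hR
    have hsplit : S 8 ⊆ {b | b ∈ S 8 ∧ red b = X} ∪ R := fun b hb => by
      by_cases h : red b = X
      · exact Or.inl ⟨hb, h⟩
      · exact Or.inr ⟨hb, h⟩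
    have hRfin : R.Finite := f8.subset fun b hb => hb.1
    have hFfin : {b | b ∈ S 8 ∧ red b = X}.Finite := f8.subset fun b hb => hb.1
    have l1 := (Set.ncard_le_ncard hsplit (hFfin.union hRfin)).trans (Set.ncard_union_le _ _)
    have l2 := ncard_le_mul_image red hRfin 48 (fun a ha =>
      le_trans (Set.ncard_le_ncard (t := {b | b ∈ S 8 ∧ red b = red a})
        (fun b hb => ⟨hb.1.1, hb.2⟩) (f8.subset fun b hb => hb.1))
        (le48 a ha.1))
    have l3 : (red '' R).ncard + 1 ≤ (red '' S 8).ncard := by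
      have hsub : red '' R ⊆ red '' S 8 \ {X} := by
        rintro _ ⟨b, ⟨hb, hbX⟩, rfl⟩
        exact ⟨⟨b, hb, rfl⟩, hbX⟩
      have := Set.ncard_le_ncard hsub (Set.toFinite _)
      have := Set.ncard_sdiff_singleton_add_one hX
      omega
    rw [show (S 8).ncard = 398034000 from h8] at l1
    rw [hall.2] at l3
    omega
  · have hx : red x ∈ Z ∪ red '' S 4 ∪ red '' S 6 ∪ red '' S 8 := hall.1 ▸ Set.mem_univ _
    rcases hx with ((⟨y, hy, hyx⟩ | ⟨y, hy, hyx⟩) | ⟨y, hy, hyx⟩) | ⟨y, hy, hyx⟩ <;>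
      exact ⟨y, hy.out.trans_le (by norm_num), (red_eq_iff x y).1 hyx.symm⟩

end Counts

end Cfsg.Agent.Lib.EvenForm
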