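import Mathlib

/-! Complements in the subgroup lattice via a subgroup with a unique maximal overgroup. -/

set_option autoImplicit false

namespace Cfsg.Agent.Lib.SubgroupComplement

open scoped Pointwise

variable {G : Type*} [Group G] [Finite G]

/-- A subgroup outside the unique maximal overgroup `M` of `X` has a complement if the interval
`[T, X]` is complemented. -/
theorem exists_complement_of_interval (T X M : Subgroup G) (hTX : T ≤ X)
    (hint : ∀ Y : Subgroup G, T ≤ Y → Y ≤ X →
      ∃ C : Subgroup G, T ≤ C ∧ C ≤ X ∧ Y ⊔ C = X ∧ Y ⊓ C = T)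
    (huniq : ∀ M' : Subgroup G, IsCoatom M' → X ≤ M' → M' = M)
    (H : Subgroup G) (hH : ¬ H ≤ M) (hHT : H ⊓ T = ⊥) :
    ∃ C : Subgroup G, H ⊔ C = ⊤ ∧ H ⊓ C = ⊥ := by
  obtain ⟨C, hTC, hCX, hsup, hinf⟩ := hint (T ⊔ (H ⊓ X)) le_sup_left (sup_le hTX inf_le_right)
  refine ⟨C, ?_, ?_⟩
  · have hX' : X ≤ H ⊔ C := by
      rw [← hsup]
      exact sup_le (sup_le (hTC.trans le_sup_right) (inf_le_left.trans le_sup_left)) le_sup_right
    rcases eq_top_or_exists_le_coatom (H ⊔ C) with h | ⟨M', hM', hle⟩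
    · exact h
    · exfalso
      have := huniq M' hM' (hX'.trans hle)
      exact hH (le_sup_left.trans (this ▸ hle))
  · rw [← hHT]
    refine le_antisymm (le_inf inf_le_left ?_) (inf_le_inf_left H hTC)
    rw [← hinf]
    exact le_inf ((inf_le_inf_left H hCX).trans le_sup_right) inf_le_right

omit [Finite G] in
/-- Existence of a complement is invariant under conjugation. -/
theorem exists_complement_of_smul (g : ConjAct G) (H : Subgroup G)
    (h : ∃ C : Subgroup G, g • H ⊔ C = ⊤ ∧ g • H ⊓ C = ⊥) :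
    ∃ C : Subgroup G, H ⊔ C = ⊤ ∧ H ⊓ C = ⊥ := by
  obtain ⟨C, h1, h2⟩ := h
  refine ⟨g⁻¹ • C, ?_, ?_⟩
  · have := congrArg (fun K : Subgroup G => g⁻¹ • K) h1
    simp only [Subgroup.smul_sup, inv_smul_smul] at this
    rw [this]
    rw [eq_top_iff]
    intro x _
    rw [Subgroup.mem_inv_pointwise_smul_iff]
    trivial
  · have := congrArg (fun K : Subgroup G => g⁻¹ • K) h2
    simp only [Subgroup.smul_inf, inv_smul_smul, Subgroup.smul_bot] at this
    exact this

omit [Finite G] in
/-- If no conjugate of `H` escapes `M`, then `H` lies in the core of `M`. -/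
theorem le_normalCore_of_forall_smul_le (H M : Subgroup G)
    (h : ∀ g : ConjAct G, g • H ≤ M) : H ≤ M.normalCore := by
  intro x hx b
  have := h (ConjAct.toConjAct b) (Subgroup.smul_mem_pointwise_smul x _ H hx)
  rwa [ConjAct.smul_def, ConjAct.ofConjAct_toConjAct] at this

omit [Finite G] in
theorem complementedLattice_quotient_of_forall (N : Subgroup G) [N.Normal]
    (h : ∀ H : Subgroup G, N < H → ∃ C : Subgroup G, H ⊔ C = ⊤ ∧ H ⊓ C = ⊥) :
    ComplementedLattice (Subgroup (G ⧸ N)) := by
  refine ⟨fun K => ?_⟩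
  have hN : N ≤ K.comap (QuotientGroup.mk' N) := by
    intro x hx
    simp [Subgroup.mem_comap, (QuotientGroup.eq_one_iff x).2 hx]
  rcases eq_or_lt_of_le hN with he | hlt
  · refine ⟨⊤, ?_⟩
    have hK : K = ⊥ := by
      rw [← Subgroup.map_comap_eq_self_of_surjective (QuotientGroup.mk'_surjective N) K, ← he]
      exact QuotientGroup.map_mk'_self N
    rw [hK]
    exact isCompl_bot_top
  · obtain ⟨C, h1, h2⟩ := h _ hlt
    refine ⟨C.map (QuotientGroup.mk' N), IsCompl.of_eq ?_ ?_⟩
    · rw [eq_bot_iff]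
      intro y hy
      obtain ⟨hyK, hyC⟩ := Subgroup.mem_inf.1 hy
      obtain ⟨c, hc, rfl⟩ := Subgroup.mem_map.1 hyC
      have : c ∈ K.comap (QuotientGroup.mk' N) ⊓ C := ⟨hyK, hc⟩
      rw [h2, Subgroup.mem_bot] at this
      simp [this]
    · have := congrArg (Subgroup.map (QuotientGroup.mk' N)) h1
      rw [Subgroup.map_sup, Subgroup.map_comap_eq_self_of_surjective (QuotientGroup.mk'_surjective N),
        Subgroup.map_top_of_surjective _ (QuotientGroup.mk'_surjective N)] at this
      exact this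

end Cfsg.Agent.Lib.SubgroupComplement
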